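import Groth.Agent.AlgStLib.Rows3
import Groth.Agent.AlgStLib.QcMor
import Groth.Agent.AlgSpLib.FpqcMore
import Groth.Agent.AlgSpLib.MorPack
import Groth.Agent.S10540
import Groth.Prelude.Def_W4stkstmodspWNA

/-!
# Well-nigh affine stacks
-/

set_option autoImplicit false
set_option backward.isDefEq.respectTransparency false
set_option backward.isDefEq.respectTransparency.types false

universe u

open CategoryTheory CategoryTheory.Limits AlgebraicGeometry Opposite AlgSp FibCat FibLib AlgSpLib AlgStLib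

noncomputable section

namespace WellNighLib

variable {S : Scheme.{u}} {𝒳 : AlgSt.Cat S}

lemma isEquivOver_toSelf_terminal :
    IsEquivOver (toSelf (overCat (Over.mk (𝟙 S) : Over S))) := by
  let T : Over S := Over.mk (𝟙 S)
  haveI : (toSelf (overCat T)).toFunctor.Faithful :=
    ⟨fun {a b f g} h => Over.OverMorphism.ext h⟩
  haveI : (toSelf (overCat T)).toFunctor.Full := ⟨fun {a b} f => by
    refine ⟨Over.homMk f ?_, rfl⟩
    apply Over.OverMorphism.ext
    have h1 := Over.w a.hom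
    have h2 := Over.w b.hom
    have h3 := Over.w f
    change f.left ≫ b.hom.left = a.hom.left
    have ha : a.hom.left = a.left.hom := by simpa [T] using h1
    have hb : b.hom.left = b.left.hom := by simpa [T] using h2
    rw [ha, hb]
    exact h3⟩
  refine isEquivOver_of_vertEssSurj _ fun W => ⟨Over.mk (Over.homMk W.hom (Category.comp_id _) : W ⟶ T), Iso.refl _, ?_⟩
  exact IsHomLift.id rfl

/-- The structure map of a chart by a separated scheme is separated. -/
lemma repByAlgSpWith_separated_toSelf (U : Over S) [IsSeparated U.hom] (x : overCat U ⥤ᵇ 𝒳) :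
    AlgSt.RepByAlgSpWith IsSeparatedMor (BasedFunctor.comp x (toSelf 𝒳)) := by
  let T : Over S := Over.mk (𝟙 S)
  let j : U ⟶ T := Over.homMk U.hom (Category.comp_id _)
  have hj : IsSeparatedMor ((yon S).map j) :=
    isSeparatedMor_of_repWith ((repWith_yon_map_iff (P := @IsSeparated) j).2 (inferInstanceAs (IsSeparated U.hom)))
  exact (repByAlgSpWith_square_iff (f := BasedFunctor.comp x (toSelf 𝒳)) (f' := AlgSt.overMap j)
    (a := BasedFunctor.id _) (b := toSelf (overCat T)) (isEquivOver_id _) isEquivOver_toSelf_terminal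
    (compToSelfIso (AlgSt.overMap j) ≪≫ (compToSelfIso x).symm) _).mpr
    (repByAlgSpWith_overMap good_separated.bc j hj)

lemma finite_cancel {X Y Z : Sp S} (hX : IsAlgSpace X) (hY : IsAlgSpace Y) (hZ : IsAlgSpace Z) (a : X ⟶ Y)
    (b : Y ⟶ Z) (hab : IsFiniteMor (a ≫ b)) (hb : IsSeparatedMor b) : IsFiniteMor a :=
  cancel_of_graph good_finite (P₀ := @IsClosedImmersion)
    (fun _ _ _ _ _ _ hs => isFiniteMor_iff.2
      (repWith_mono (fun _ _ g (_ : IsClosedImmersion g) => (inferInstance : IsFinite g)) hs)) hX hY hZ hab hb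

lemma exists_chart (hw : AlgSt.IsWellNighAffine 𝒳) :
    ∃ (U : Over S) (x : overCat U ⥤ᵇ 𝒳), IsAffine U.left ∧
      AlgSt.RepByAlgSpWith IsSurjectiveMor x ∧ AlgSt.RepByAlgSpWith (LocP @Flat) x ∧
      AlgSt.RepByAlgSpWith IsFiniteMor x ∧ AlgSt.RepByAlgSpWith (LocP @LocallyOfFinitePresentation) x := by
  obtain ⟨U, x, hU, hx⟩ := hw
  exact ⟨U, x, hU, repByAlgSpWith_mono (fun _ _ _ _ _ h => h.1.1.1) hx,
    repByAlgSpWith_mono (fun _ _ _ _ _ h => h.1.1.2) hx, repByAlgSpWith_mono (fun _ _ _ _ _ h => h.1.2) hx,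
    repByAlgSpWith_mono (fun _ _ _ _ _ h => h.2) hx⟩

variable (h𝒳 : AlgSt.IsAlgStack Scheme.fppfPrecoverage 𝒳) (hw : AlgSt.IsWellNighAffine 𝒳)
include h𝒳 hw

theorem repByAlgSpWith_finite_diag : AlgSt.RepByAlgSpWith IsFiniteMor (diag (toSelf 𝒳)) := by
  obtain ⟨U, x, hU, hxs, hxf, hxfin, hxp⟩ := exists_chart hw
  haveI := hU
  haveI : IsSeparated (terminal.from U.left) := inferInstance
  haveI : IsSeparated (U.hom ≫ terminal.from S) := by
    rw [terminal.comp_from]; infer_instance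
  haveI : IsSeparated U.hom := IsSeparated.of_comp U.hom (terminal.from S)
  haveI := isFibGrpd_of_isAlgStack h𝒳
  haveI := isFibGrpd_of_repByAlgSp (repByAlgSp_selfOver (S := S))
  haveI := FibLib.isFibGrpd_overCat U
  haveI : IsFibGrpd (fp (toSelf 𝒳) (toSelf 𝒳)).p := isFibGrpd_fp
  let p := BasedFunctor.comp x (toSelf 𝒳)
  haveI : IsFibGrpd (fp p p).p := isFibGrpd_fp
  refine repByAlgSpWith_of_fppf_cover good_finite.bc
    (isLocalOnBase_fppf_of_fpqc (Groth.Agent.S10540.result S)) h𝒳.diag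
    (z := pairBoth x x (toSelf 𝒳) (toSelf 𝒳))
    (repByAlgSpWith_pairBoth x x _ _ good_flat hxf hxf) (repByAlgSpWith_pairBoth x x _ _ good_lfp hxp hxp)
    (repByAlgSpWith_pairBoth x x _ _ good_surjective hxs hxs) ?_
  have h1 : AlgSt.RepByAlgSpWith IsFiniteMor (fpPush x x (toSelf 𝒳)) :=
    repByAlgSpWith_of_comp good_finite.bc (G := FibCat.fpFst p p)
      (repByAlgSpWith_fpFst _ x hxfin)
      (repByAlgSpWith_fpFst IsSeparatedMor p (repByAlgSpWith_separated_toSelf U x))
      fun _ _ _ h₁ h₂ h₃ a b hab hb => finite_cancel h₁ h₂ h₃ a b hab hb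
  exact (repByAlgSpWith_square_iff (f := FibCat.fpFst (fpPair x x (toSelf 𝒳)) (diag (toSelf 𝒳)))
    (f' := fpPush x x (toSelf 𝒳)) (b := BasedFunctor.id _) (isEquivOver_fpMagic x x (toSelf 𝒳))
    (isEquivOver_id _) (Iso.refl _) _).mpr h1

theorem isQuasiCompact : AlgSt.IsQuasiCompact 𝒳 := by
  obtain ⟨U, x, hU, hxs, -, -, -⟩ := exists_chart hw
  haveI := hU
  haveI := isFibGrpd_of_isAlgStack h𝒳
  exact isQuasiCompact_of_compactSpace h𝒳.atlas
    ⟨(surjective_ofChart hxs).range_eq ▸ isCompact_range (continuous_ofChart h𝒳.atlas x)⟩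

theorem isSeparatedOver : AlgSt.IsSeparatedOver 𝒳 :=
  repByAlgSpWith_mono (fun _ _ _ hH hG h => ((isFiniteMor_iff_affine_proper hH hG).1 h).2)
    (repByAlgSpWith_finite_diag h𝒳 hw)

theorem isQuasiDMOver : AlgSt.IsQuasiDMOver 𝒳 :=
  repByAlgSpWith_mono (fun _ _ _ hH hG h => by
    have h' := isFiniteMor_iff.1 h
    exact locP_of_repWith (repWith_mono (fun _ _ g (_ : IsFinite g) =>
      (⟨inferInstance, inferInstance⟩ : LocallyQuasiFinite g ∧ LocallyOfFiniteType g)) h'))
    (repByAlgSpWith_finite_diag h𝒳 hw)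

end WellNighLib
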